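import Mathlib

/-!
# Open quotients of spectral spaces by spectral equivalence relations (helper2)

Let `U`, `R` be spectral spaces, `s t : R → U` spectral maps and `p : U → Y` a continuous open
surjection whose fibres are the classes of the relation "image of `(s, t)`".  Then `Y` is spectral.
-/

set_option autoImplicit false

namespace Groth.Agent.Helper2.SpectralQuot

open Topology TopologicalSpace Set

section Patch

variable {X : Type*} [TopologicalSpace X]

/-- Closed in the constructible topology. -/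
def IsPatchClosed (A : Set X) : Prop := IsClosed[constructibleTopology X] A

theorem isPatchClosed_of_isCompact_isOpen {A : Set X} (hc : IsCompact A) (ho : IsOpen A) :
    IsPatchClosed A := by
  rw [IsPatchClosed, ← @isOpen_compl_iff _ _ (constructibleTopology X)]
  exact IsCompact.isOpen_constructibleTopology_of_isClosed (by simpa using hc) ho.isClosed_compl

theorem isPatchClosed_of_isClosed [PrespectralSpace X] {A : Set X} (hA : IsClosed A) :
    IsPatchClosed A := by
  rw [IsPatchClosed, ← @isOpen_compl_iff _ _ (constructibleTopology X)]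
  obtain ⟨S, hS, hSU⟩ := (PrespectralSpace.isTopologicalBasis (X := X)).open_eq_sUnion
    hA.isOpen_compl
  rw [hSU]
  exact @isOpen_sUnion _ (constructibleTopology X) _ fun s hs =>
    (hS hs).2.isOpen_constructibleTopology_of_isOpen (hS hs).1

theorem IsPatchClosed.inter {A B : Set X} (hA : IsPatchClosed A) (hB : IsPatchClosed B) :
    IsPatchClosed (A ∩ B) := by
  letI := constructibleTopology X
  exact IsClosed.inter hA hB

theorem isPatchClosed_preimage {Y : Type*} [TopologicalSpace Y] {f : X → Y}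
    (hf : IsSpectralMap f) {A : Set Y} (hA : IsPatchClosed A) : IsPatchClosed (f ⁻¹' A) := by
  have hc : @Continuous X Y (constructibleTopology X) (constructibleTopology Y) f := by
    apply continuous_generateFrom_iff.2
    rintro s (⟨ho, hc⟩ | ⟨hcl, hc⟩)
    · exact (hc.preimage_of_isOpen hf ho).isOpen_constructibleTopology_of_isOpen
        (ho.preimage hf.continuous)
    · refine IsCompact.isOpen_constructibleTopology_of_isClosed ?_ (hcl.preimage hf.continuous)
      rw [← preimage_compl]
      exact hc.preimage_of_isOpen hf hcl.isOpen_compl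
  exact @IsClosed.preimage _ _ (constructibleTopology X) (constructibleTopology Y) f hc A hA

/-- Compactness of the constructible topology, as a finite intersection property. -/
theorem nonempty_sInter_of_isPatchClosed [CompactSpace X] [QuasiSober X] [PrespectralSpace X]
    [QuasiSeparatedSpace X] (𝒢 : Set (Set X)) (h𝒢 : ∀ A ∈ 𝒢, IsPatchClosed A)
    (hfip : ∀ 𝒢' ⊆ 𝒢, 𝒢'.Finite → (⋂₀ 𝒢').Nonempty) : (⋂₀ 𝒢).Nonempty := by
  have hc : @CompactSpace X (constructibleTopology X) :=
    @Function.Surjective.compactSpace (WithConstructibleTopology X) X _ (constructibleTopology X)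
      WithTopology.ofTopology (WithTopology.continuous_ofTopology _) _
      (WithTopology.ofTopology_surjective _)
  exact @CompactSpace.nonempty_sInter X (constructibleTopology X) hc 𝒢 h𝒢 hfip

/-- Indexed form of the finite intersection property. -/
theorem nonempty_iInter_of_isPatchClosed [CompactSpace X] [QuasiSober X] [PrespectralSpace X]
    [QuasiSeparatedSpace X] {ι : Type*} (A : ι → Set X) (hA : ∀ i, IsPatchClosed (A i))
    (hfip : ∀ F : Finset ι, (⋂ i ∈ F, A i).Nonempty) : (⋂ i, A i).Nonempty := by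
  classical
  have h := nonempty_sInter_of_isPatchClosed (Set.range A) (by rintro _ ⟨i, rfl⟩; exact hA i) ?_
  · rwa [sInter_range] at h
  · intro 𝒢' h𝒢' hfin
    have hch : ∀ B : (𝒢' : Set (Set X)), ∃ i, A i = B.1 := fun B => h𝒢' B.2
    choose idx hidx using hch
    have : Fintype (𝒢' : Set (Set X)) := hfin.fintype
    obtain ⟨x, hx⟩ := hfip (Finset.univ.image idx)
    refine ⟨x, ?_⟩
    rw [mem_sInter]
    intro B hB
    have := mem_iInter₂.1 hx (idx ⟨B, hB⟩) (Finset.mem_image_of_mem _ (Finset.mem_univ _))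
    rwa [hidx] at this

/-- In a prespectral space, specialization can be tested on compact opens. -/
theorem specializes_of_forall_compact_open [PrespectralSpace X] {x y : X}
    (h : ∀ V : Set X, IsOpen V → IsCompact V → y ∈ V → x ∈ V) : x ⤳ y := by
  rw [specializes_iff_forall_open]
  intro N hN hy
  obtain ⟨V, ⟨hVo, hVc⟩, hyV, hVN⟩ :=
    (PrespectralSpace.isTopologicalBasis (X := X)).exists_subset_of_mem_open hy hN
  exact hVN (h V hVo hVc hyV)

end Patch

section Quot

variable {U R Y : Type*} [TopologicalSpace U] [TopologicalSpace R] [TopologicalSpace Y]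
  [SpectralSpace U] [SpectralSpace R] (s t : R → U) (hs : IsSpectralMap s) (ht : IsSpectralMap t)
  (p : U → Y) (hpc : Continuous p) (hpo : IsOpenMap p) (hps : Function.Surjective p)
  (hE : ∀ u u', p u = p u' ↔ ∃ r, s r = u ∧ t r = u')

include hE in
theorem p_s_eq_p_t (r : R) : p (s r) = p (t r) := (hE _ _).2 ⟨r, rfl, rfl⟩

include hE in
theorem preimage_image_eq (V : Set U) : p ⁻¹' (p '' V) = t '' (s ⁻¹' V) := by
  ext u'
  constructor
  · rintro ⟨u, hu, huu'⟩
    obtain ⟨r, rfl, rfl⟩ := (hE u u').1 huu'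
    exact ⟨r, hu, rfl⟩
  · rintro ⟨r, hr, rfl⟩
    exact ⟨s r, hr, p_s_eq_p_t s t p hE r⟩

include hs ht hE in
theorem isCompact_preimage_image {V : Set U} (hVo : IsOpen V) (hVc : IsCompact V) :
    IsCompact (p ⁻¹' (p '' V)) := by
  rw [preimage_image_eq s t p hE]
  exact (hVc.preimage_of_isOpen hs hVo).image ht.continuous

include hs ht hE in
/-- The closure of a fibre of `p` consists of specializations of its points. -/
theorem exists_specializes_of_mem_closure (u ξ : U) (hξ : ξ ∈ closure (p ⁻¹' {p u})) :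
    ∃ o, p o = p u ∧ o ⤳ ξ := by
  let ι₁ := {V : Set U // IsOpen V ∧ IsCompact V ∧ u ∈ V}
  let ι₂ := {V : Set U // IsOpen V ∧ IsCompact V ∧ ξ ∈ V}
  let A : Option (ι₁ ⊕ ι₂) → Set R := fun i =>
    match i with
    | none => s ⁻¹' closure {u}
    | some (Sum.inl V) => s ⁻¹' V.1
    | some (Sum.inr V) => t ⁻¹' V.1
  have hA : ∀ i, IsPatchClosed (A i) := by
    rintro (_ | V | V)
    · exact isPatchClosed_preimage hs (isPatchClosed_of_isClosed isClosed_closure)
    · exact isPatchClosed_preimage hs (isPatchClosed_of_isCompact_isOpen V.2.2.1 V.2.1)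
    · exact isPatchClosed_preimage ht (isPatchClosed_of_isCompact_isOpen V.2.2.1 V.2.1)
  have hfip : ∀ F : Finset (Option (ι₁ ⊕ ι₂)), (⋂ i ∈ F, A i).Nonempty := by
    intro F
    let W : Option (ι₁ ⊕ ι₂) → Set U := fun i =>
      match i with
      | some (Sum.inr V) => V.1
      | _ => univ
    have hWo : IsOpen (⋂ i ∈ F, W i) := by
      refine isOpen_biInter_finset fun i _ => ?_
      rcases i with (_ | V | V)
      · exact isOpen_univ
      · exact isOpen_univ
      · exact V.2.1
    have hξW : ξ ∈ ⋂ i ∈ F, W i := by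
      refine mem_iInter₂.2 fun i _ => ?_
      rcases i with (_ | V | V)
      · trivial
      · trivial
      · exact V.2.2.2
    obtain ⟨o, hoW, ho⟩ := mem_closure_iff.1 hξ _ hWo hξW
    obtain ⟨r, hr1, hr2⟩ := (hE u o).1 (ho : p o = p u).symm
    refine ⟨r, mem_iInter₂.2 fun i hi => ?_⟩
    rcases i with (_ | V | V)
    · change s r ∈ closure {u}
      rw [hr1]
      exact subset_closure rfl
    · change s r ∈ V.1
      rw [hr1]
      exact V.2.2.2
    · change t r ∈ V.1
      rw [hr2]
      exact mem_iInter₂.1 hoW (some (Sum.inr V)) hi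
  obtain ⟨r, hr⟩ := nonempty_iInter_of_isPatchClosed A hA hfip
  rw [mem_iInter] at hr
  have h1 : u ⤳ s r := specializes_iff_mem_closure.2 (hr none)
  have h2 : s r ⤳ u := specializes_of_forall_compact_open fun V hVo hVc huV =>
    hr (some (Sum.inl ⟨V, hVo, hVc, huV⟩))
  have h3 : s r = u := (h2.antisymm h1).eq
  have h4 : t r ⤳ ξ := specializes_of_forall_compact_open fun V hVo hVc hξV =>
    hr (some (Sum.inr ⟨V, hVo, hVc, hξV⟩))
  exact ⟨t r, by rw [← p_s_eq_p_t s t p hE r, h3], h4⟩

include hs ht hpc hpo hps hE in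
theorem t0Space_quot : T0Space Y := by
  refine ⟨fun y y' hyy' => ?_⟩
  obtain ⟨u, rfl⟩ := hps y
  obtain ⟨u', rfl⟩ := hps y'
  have hce : closure {p u} = closure {p u'} := inseparable_iff_closure_eq.1 hyy'
  set Z : Set U := p ⁻¹' closure {p u} with hZ
  have hZc : IsClosed Z := isClosed_closure.preimage hpc
  have hcl : closure (p ⁻¹' {p u}) = Z :=
    (hpo.preimage_closure_eq_closure_preimage hpc _).symm
  have hcl' : closure (p ⁻¹' {p u'}) = Z := by
    rw [hZ, hce]
    exact (hpo.preimage_closure_eq_closure_preimage hpc _).symm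
  have huZ : u ∈ Z := subset_closure rfl
  have : QuasiSober ↥Z := hZc.isClosedEmbedding_subtypeVal.quasiSober
  let C : Set ↥Z := irreducibleComponent ⟨u, huZ⟩
  have hCi : IsIrreducible C := isIrreducible_irreducibleComponent
  have hCc : IsClosed C := isClosed_irreducibleComponent
  obtain ⟨ξ, hξ⟩ := QuasiSober.sober hCi hCc
  -- any point of `Z` specializing to `ξ` equals `ξ`
  have key : ∀ o : U, o ∈ Z → o ⤳ ξ.1 → o = ξ.1 := by
    intro o hoZ ho
    have ho' : (⟨o, hoZ⟩ : ↥Z) ⤳ ξ := (subtype_specializes_iff _ _).2 ho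
    have hsub : C ⊆ closure {(⟨o, hoZ⟩ : ↥Z)} := by
      rw [← hξ.def]
      exact closure_minimal (singleton_subset_iff.2 (specializes_iff_mem_closure.1 ho'))
        isClosed_closure
    have heq : closure {(⟨o, hoZ⟩ : ↥Z)} = C :=
      eq_irreducibleComponent isIrreducible_singleton.closure.isPreirreducible hsub
    have hgen : IsGenericPoint (⟨o, hoZ⟩ : ↥Z) C := heq
    exact congrArg Subtype.val (hgen.eq hξ)
  obtain ⟨o, ho1, ho2⟩ := exists_specializes_of_mem_closure s t hs ht p hE u ξ.1
    (by rw [hcl]; exact ξ.2)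
  obtain ⟨o', ho1', ho2'⟩ := exists_specializes_of_mem_closure s t hs ht p hE u' ξ.1
    (by rw [hcl']; exact ξ.2)
  have hoZ : o ∈ Z := by
    change p o ∈ closure {p u}
    rw [ho1]
    exact subset_closure rfl
  have hoZ' : o' ∈ Z := by
    change p o' ∈ closure {p u}
    rw [ho1', hce]
    exact subset_closure rfl
  rw [← ho1, ← ho1', key o hoZ ho2, key o' hoZ' ho2']

include hs ht hpc hpo hps hE in
theorem quasiSober_quot : QuasiSober Y := by
  classical
  refine ⟨fun {T} hT hTc => ?_⟩
  set Z : Set U := p ⁻¹' T with hZ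
  have hZc : IsClosed Z := hTc.preimage hpc
  let ι := {V : Set U // IsOpen V ∧ IsCompact V ∧ (V ∩ Z).Nonempty}
  let A : Option ι → Set U := fun i =>
    match i with
    | none => Z
    | some V => p ⁻¹' (p '' V.1)
  have hA : ∀ i, IsPatchClosed (A i) := by
    rintro (_ | V)
    · exact isPatchClosed_of_isClosed hZc
    · exact isPatchClosed_of_isCompact_isOpen
        (isCompact_preimage_image s t hs ht p hE V.2.1 V.2.2.1)
        ((hpo _ V.2.1).preimage hpc)
  have hfip : ∀ F : Finset (Option ι), (⋂ i ∈ F, A i).Nonempty := by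
    intro F
    let W : Option ι → Set Y := fun i =>
      match i with
      | none => univ
      | some V => p '' V.1
    have h1 := isIrreducible_iff_sInter.1 hT (F.image W) (by
      intro w hw
      obtain ⟨i, -, rfl⟩ := Finset.mem_image.1 hw
      rcases i with (_ | V)
      · exact isOpen_univ
      · exact hpo _ V.2.1) (by
      intro w hw
      obtain ⟨i, -, rfl⟩ := Finset.mem_image.1 hw
      rcases i with (_ | V)
      · exact ⟨_, hT.nonempty.some_mem, trivial⟩
      · obtain ⟨v, hvV, hvZ⟩ := V.2.2.2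
        exact ⟨p v, hvZ, v, hvV, rfl⟩)
    obtain ⟨y, hyT, hy⟩ := h1
    obtain ⟨u₀, rfl⟩ := hps y
    refine ⟨u₀, mem_iInter₂.2 fun i hi => ?_⟩
    have hyi : p u₀ ∈ W i := mem_sInter.1 hy _ (Finset.mem_coe.2 (Finset.mem_image_of_mem W hi))
    rcases i with (_ | V)
    · exact hyT
    · exact hyi
  obtain ⟨ξ, hξ⟩ := nonempty_iInter_of_isPatchClosed A hA hfip
  rw [mem_iInter] at hξ
  have hξZ : p ξ ∈ T := hξ none
  refine ⟨p ξ, ?_⟩
  change closure {p ξ} = T
  refine subset_antisymm (closure_minimal (singleton_subset_iff.2 hξZ) hTc) fun y hy => ?_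
  obtain ⟨u₁, rfl⟩ := hps y
  rw [mem_closure_iff]
  intro N hN hyN
  obtain ⟨V, ⟨hVo, hVc⟩, hu₁V, hVN⟩ :=
    (PrespectralSpace.isTopologicalBasis (X := U)).exists_subset_of_mem_open
      (show u₁ ∈ p ⁻¹' N from hyN) (hN.preimage hpc)
  obtain ⟨v, hvV, hv⟩ := hξ (some ⟨V, hVo, hVc, ⟨u₁, hu₁V, hy⟩⟩)
  exact ⟨p ξ, by rw [← hv]; exact hVN hvV, rfl⟩

include hs ht hpc hpo hps hE in
theorem quasiSeparatedSpace_quot : QuasiSeparatedSpace Y := by
  refine ⟨fun W₁ W₂ hW₁o hW₁c hW₂o hW₂c => ?_⟩
  obtain ⟨V₁, hV₁c, rfl⟩ := hpo.exists_opens_image_eq_of_prespectralSpace hpc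
    (fun y _ => hps y) hW₁o hW₁c
  obtain ⟨V₂, hV₂c, rfl⟩ := hpo.exists_opens_image_eq_of_prespectralSpace hpc
    (fun y _ => hps y) hW₂o hW₂c
  have : p '' (V₁ : Set U) ∩ p '' (V₂ : Set U) =
      (p ∘ t) '' (s ⁻¹' (V₁ : Set U) ∩ t ⁻¹' (V₂ : Set U)) := by
    ext y
    constructor
    · rintro ⟨⟨u₁, hu₁, rfl⟩, ⟨u₂, hu₂, h⟩⟩
      obtain ⟨r, rfl, rfl⟩ := (hE _ _).1 h.symm
      exact ⟨r, ⟨hu₁, hu₂⟩, (p_s_eq_p_t s t p hE r).symm⟩
    · rintro ⟨r, ⟨hr1, hr2⟩, rfl⟩
      exact ⟨⟨s r, hr1, p_s_eq_p_t s t p hE r⟩, ⟨t r, hr2, rfl⟩⟩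
  rw [this]
  exact (QuasiSeparatedSpace.inter_isCompact _ _ (V₁.2.preimage hs.continuous)
    (hV₁c.preimage_of_isOpen hs V₁.2) (V₂.2.preimage ht.continuous)
    (hV₂c.preimage_of_isOpen ht V₂.2)).image (hpc.comp ht.continuous)

include hpc hpo hps in
theorem prespectralSpace_quot : PrespectralSpace Y := by
  have hq : IsQuotientMap p := hpo.isQuotientMap hpc hps
  refine PrespectralSpace.of_isTopologicalBasis
    ((PrespectralSpace.isTopologicalBasis (X := U)).isQuotientMap hq hpo) ?_
  rintro _ ⟨V, ⟨-, hVc⟩, rfl⟩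
  exact hVc.image hpc

include hs ht hpc hpo hps hE in
/-- **Main theorem**: an open quotient of a spectral space by the image of a pair of spectral
maps from a spectral space is spectral. -/
theorem spectralSpace_quot : SpectralSpace Y :=
  { t0Space_quot s t hs ht p hpc hpo hps hE,
    hps.compactSpace hpc,
    quasiSober_quot s t hs ht p hpc hpo hps hE,
    quasiSeparatedSpace_quot s t hs ht p hpc hpo hps hE,
    prespectralSpace_quot p hpc hpo hps with }

end Quot

end Groth.Agent.Helper2.SpectralQuot
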